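import Groth.Agent.L07.BrnchCompl.Compl
import Groth.Agent.L05.GabberRig.Main
import Groth.Agent.L13.LocalPair.Hens
import Mathlib.RingTheory.KrullDimension.Basic

/-! One-dimensional branches of a completion. -/

set_option autoImplicit false
set_option backward.isDefEq.respectTransparency.types false
set_option linter.all false

universe u

open IsLocalRing PrimeSpectrum

namespace Groth.L07.BrnchCompl

/-- A one-dimensional branch of a henselian-local completion-like extension is alone over its image. -/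
theorem radical_eq (S B : Type u) [CommRing S] [HenselianLocalRing S] [IsNoetherianRing S]
    [CommRing B] [IsLocalRing B] [IsNoetherianRing B] [Algebra S B] [Module.FaithfullyFlat S B]
    (hm : (maximalIdeal S).map (algebraMap S B) = maximalIdeal B)
    (hres : ∀ y : B, ∃ x : S, y - algebraMap S B x ∈ maximalIdeal B)
    (q : Ideal B) (hq : q ∈ minimalPrimes B) (hq1 : q ≠ maximalIdeal B)
    (hq2 : ∀ p : Ideal B, p.IsPrime → q ≤ p → p = q ∨ p = maximalIdeal B) :
    ((q.comap (algebraMap S B)).map (algebraMap S B)).radical = q := by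
  classical
  haveI := hq.isPrime
  set P := q.comap (algebraMap S B) with hP
  set PB := P.map (algebraMap S B) with hPB
  have hPBq : PB ≤ q := Ideal.map_comap_le
  have hPBm : PB ≤ maximalIdeal B := hPBq.trans (le_maximalIdeal (Ideal.IsPrime.ne_top'))
  haveI : P.IsPrime := Ideal.IsPrime.comap _
  haveI : Nontrivial (S ⧸ P) := Ideal.Quotient.nontrivial_iff.mpr (Ideal.IsPrime.ne_top')
  haveI : IsLocalRing (S ⧸ P) := IsLocalRing.of_surjective' _ Ideal.Quotient.mk_surjective
  haveI : HenselianLocalRing (S ⧸ P) := Groth.L13.LocalPair.henselian_quotient P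
  haveI : IsNoetherianRing (S ⧸ P) := Ideal.Quotient.isNoetherianRing P
  let φ : S ⧸ P →+* B ⧸ PB := Ideal.quotientMap PB (algebraMap S B) Ideal.le_comap_map
  let I := maximalIdeal (S ⧸ P)
  have hI : I = (maximalIdeal S).map (Ideal.Quotient.mk P) :=
    (IsLocalRing.eq_maximalIdeal ((Ideal.map_eq_top_or_isMaximal_of_surjective _
      Ideal.Quotient.mk_surjective (maximalIdeal.isMaximal S)).resolve_left fun h => by
        have := congrArg (Ideal.comap (Ideal.Quotient.mk P)) h
        rw [Ideal.comap_map_of_surjective _ Ideal.Quotient.mk_surjective, Ideal.comap_top,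
          ← RingHom.ker_eq_comap_bot, Ideal.mk_ker, sup_of_le_left (le_maximalIdeal
            (Ideal.IsPrime.ne_top'))] at this
        exact Ideal.IsPrime.ne_top' this)).symm
  have hmap : ∀ J : Ideal S, (J.map (Ideal.Quotient.mk P)).map φ =
      (J.map (algebraMap S B)).map (Ideal.Quotient.mk PB) := fun J => by
    rw [Ideal.map_map, Ideal.map_map, Ideal.quotientMap_comp_mk]
  have hIN : ∀ N, (I ^ N).map φ = ((maximalIdeal S ^ N).map (algebraMap S B)).map (Ideal.Quotient.mk PB) :=
    fun N => by rw [hI, ← Ideal.map_pow, hmap]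
  have hs : ∀ (N : ℕ) (y : B ⧸ PB), ∃ x : S ⧸ P, y - φ x ∈ (I ^ N).map φ := fun N y => by
    obtain ⟨y, rfl⟩ := Ideal.Quotient.mk_surjective y
    obtain ⟨x, hx⟩ := approx S B (by rw [hm]; exact hres) N y
    refine ⟨Ideal.Quotient.mk P x, ?_⟩
    rw [Ideal.quotientMap_mk, ← map_sub, hIN]
    exact Ideal.mem_map_of_mem _ hx
  have hi : ∀ (N : ℕ) (x : S ⧸ P), φ x ∈ (I ^ N).map φ → x ∈ I ^ N := fun N x hx => by
    obtain ⟨x, rfl⟩ := Ideal.Quotient.mk_surjective x
    rw [hIN, Ideal.quotientMap_mk, Ideal.mem_map_iff_of_surjective _ Ideal.Quotient.mk_surjective] at hx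
    obtain ⟨z, hz, hzx⟩ := hx
    rw [Ideal.Quotient.eq] at hzx
    have : algebraMap S B x ∈ (maximalIdeal S ^ N ⊔ P).map (algebraMap S B) := by
      rw [Ideal.map_sup, show algebraMap S B x = z + -(z - algebraMap S B x) by ring]
      exact Submodule.add_mem_sup hz (neg_mem hzx)
    rw [← Ideal.mem_comap, Ideal.comap_map_eq_self_of_faithfullyFlat] at this
    rw [hI, ← Ideal.map_pow]
    have := Ideal.mem_map_of_mem (Ideal.Quotient.mk P) this
    rwa [Ideal.map_sup, Ideal.map_quotient_self, sup_bot_eq] at this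
  haveI : Nontrivial (B ⧸ PB) := Ideal.Quotient.nontrivial_iff.mpr
    (ne_top_of_le_ne_top (maximalIdeal.isMaximal B).ne_top hPBm)
  haveI : IsLocalRing (B ⧸ PB) := IsLocalRing.of_surjective' _ Ideal.Quotient.mk_surjective
  have hmB : I.map φ = (maximalIdeal B).map (Ideal.Quotient.mk PB) := by rw [hI, hmap, hm]
  have hJ : I.map φ ≤ Ideal.jacobson ⊥ := by
    rw [IsLocalRing.jacobson_eq_maximalIdeal ⊥ bot_ne_top, hmB]
    refine Ideal.map_le_iff_le_comap.mpr fun b hb => ?_
    rw [Ideal.mem_comap, mem_maximalIdeal, mem_nonunits_iff]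
    intro hu
    haveI : IsLocalHom (Ideal.Quotient.mk PB) := IsLocalHom.of_surjective _ Ideal.Quotient.mk_surjective
    exact (mem_maximalIdeal b).mp hb (isUnit_of_map_unit (Ideal.Quotient.mk PB) b hu)
  have hIfg : I.FG := IsNoetherian.noetherian _
  obtain ⟨σ, hσs, hσ, hσk⟩ := Groth.L05.GabberRig.exists_retraction I φ hs hi
  set U : Set (PrimeSpectrum (S ⧸ P)) := (zeroLocus (I : Set (S ⧸ P)))ᶜ with hU
  have hUo : IsOpen U := (isClosed_zeroLocus _).isOpen_compl
  have hUc : IsCompact U := (isCompact_isOpen_iff_ideal (s := U)).mpr ⟨I, hIfg, rfl⟩ |>.1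
  let q' : PrimeSpectrum (B ⧸ PB) := ⟨q.map (Ideal.Quotient.mk PB),
    Ideal.map_isPrime_of_surjective Ideal.Quotient.mk_surjective (by rwa [Ideal.mk_ker])⟩
  have hqc : q'.asIdeal.comap (Ideal.Quotient.mk PB) = q := by
    show (q.map _).comap _ = q
    rw [Ideal.comap_map_of_surjective _ Ideal.Quotient.mk_surjective, ← RingHom.ker_eq_comap_bot,
      Ideal.mk_ker, sup_of_le_left hPBq]
  -- membership in the punctured spectrum
  have hpU : ∀ p : PrimeSpectrum (B ⧸ PB),
      p ∈ comap φ ⁻¹' U ↔ p.asIdeal.comap (Ideal.Quotient.mk PB) ≠ maximalIdeal B := fun p => by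
    rw [Set.mem_preimage, hU, Set.mem_compl_iff, mem_zeroLocus, not_iff_not]
    rw [comap_asIdeal, SetLike.coe_subset_coe, ← Ideal.map_le_iff_le_comap, hmB,
      Ideal.map_le_iff_le_comap]
    exact ⟨fun h => ((maximalIdeal.isMaximal B).eq_of_le
      (Ideal.IsPrime.ne_top inferInstance) h).symm, fun h => h.ge⟩
  have hqU : q' ∈ comap φ ⁻¹' U := (hpU q').mpr (by rw [hqc]; exact hq1)
  -- the singleton `q'` is clopen in the punctured spectrum
  have hT'' : IsOpen (comap φ ⁻¹' U \ {q'}) := by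
    have : comap φ ⁻¹' U \ {q'} = comap φ ⁻¹' U ∩ (zeroLocus (q'.asIdeal : Set (B ⧸ PB)))ᶜ := by
      ext p
      refine ⟨fun ⟨h1, h2⟩ => ⟨h1, fun hle => h2 ?_⟩, fun ⟨h1, h2⟩ => ⟨h1, fun h => h2 ?_⟩⟩
      · rw [mem_zeroLocus, SetLike.coe_subset_coe] at hle
        rcases hq2 _ (Ideal.IsPrime.comap _) (hqc.ge.trans (Ideal.comap_mono hle)) with h | h
        · exact PrimeSpectrum.ext (Ideal.comap_injective_of_surjective _
            Ideal.Quotient.mk_surjective (h.trans hqc.symm))
        · exact absurd h ((hpU p).mp h1)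
      · rw [Set.mem_singleton_iff.mp h, mem_zeroLocus]
    rw [this]
    exact (hUo.preimage (continuous_comap φ)).inter (isClosed_zeroLocus _).isOpen_compl
  have hT' : IsOpen ({q'} : Set (PrimeSpectrum (B ⧸ PB))) := by
    have : ({q'} : Set (PrimeSpectrum (B ⧸ PB))) = comap φ ⁻¹' U ∩
        ⋂ r ∈ {r ∈ minimalPrimes B | r ≠ q}, (zeroLocus
          ((r.map (Ideal.Quotient.mk PB) : Ideal (B ⧸ PB)) : Set (B ⧸ PB)))ᶜ := by
      ext p
      rw [Set.mem_singleton_iff, Set.mem_inter_iff, Set.mem_iInter₂]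
      refine ⟨?_, fun ⟨h1, h2⟩ => ?_⟩
      · rintro rfl
        refine ⟨hqU, fun r ⟨hr, hrq⟩ hle => hrq ?_⟩
        rw [mem_zeroLocus, SetLike.coe_subset_coe, Ideal.map_le_iff_le_comap, hqc] at hle
        exact le_antisymm hle (hq.2 ⟨hr.isPrime, bot_le⟩ hle)
      · obtain ⟨r, hr, hle⟩ := Ideal.exists_minimalPrimes_le (I := (⊥ : Ideal B))
          (J := p.asIdeal.comap (Ideal.Quotient.mk PB)) bot_le
        by_cases hrq : r = q
        · subst hrq
          rcases hq2 _ (Ideal.IsPrime.comap _) hle with h | h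
          · exact PrimeSpectrum.ext (Ideal.comap_injective_of_surjective _
              Ideal.Quotient.mk_surjective (h.trans hqc.symm))
          · exact absurd h ((hpU p).mp h1)
        · exact absurd (mem_zeroLocus _ _ |>.mpr (Ideal.map_le_iff_le_comap.mpr hle))
            (h2 r ⟨hr, hrq⟩)
    rw [this]
    exact (hUo.preimage (continuous_comap φ)).inter
      (Set.Finite.isOpen_biInter ((minimalPrimes.finite_of_isNoetherianRing B).subset fun r hr => hr.1)
        fun r _ => (isClosed_zeroLocus _).isOpen_compl)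
  obtain ⟨W, hWU, hW, hW', hWT⟩ := Groth.L05.GabberRig.exists_clopen I φ hs hi hJ hIfg U hUo subset_rfl
    hσs hσ hσk hUc hT' hT'' (Set.singleton_subset_iff.mpr hqU)
  let η : PrimeSpectrum (S ⧸ P) := ⟨⊥, Ideal.isPrime_bot⟩
  have hη : comap φ q' = η := by
    refine PrimeSpectrum.ext ?_
    show q'.asIdeal.comap φ = ⊥
    apply Ideal.comap_injective_of_surjective (Ideal.Quotient.mk P) Ideal.Quotient.mk_surjective
    rw [Ideal.comap_comap, Ideal.quotientMap_comp_mk, ← Ideal.comap_comap, hqc,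
      ← RingHom.ker_eq_comap_bot, Ideal.mk_ker]
  have hηW : η ∈ W := by
    rw [← hη, ← Set.mem_preimage, hWT]
    exact Set.mem_singleton q'
  have hgen : ∀ O : Set (PrimeSpectrum (S ⧸ P)), IsOpen O → O.Nonempty → η ∈ O := fun O hO ⟨x, hx⟩ =>
    ((le_iff_specializes η x).mp (show η.asIdeal ≤ x.asIdeal from bot_le)).mem_open hO hx
  have hWeq : W = U := Set.Subset.antisymm hWU fun x hx => by
    by_contra h
    exact (hgen _ hW' ⟨x, hx, h⟩).2 hηW
  refine le_antisymm ((Ideal.radical_mono hPBq).trans (Ideal.IsPrime.radical ‹q.IsPrime›).le) ?_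
  rw [Ideal.radical_eq_sInf]
  refine le_sInf fun p ⟨hp, hpp⟩ => ?_
  haveI := hpp
  let p' : PrimeSpectrum (B ⧸ PB) := ⟨p.map (Ideal.Quotient.mk PB),
    Ideal.map_isPrime_of_surjective Ideal.Quotient.mk_surjective (by rwa [Ideal.mk_ker])⟩
  have hpc : p'.asIdeal.comap (Ideal.Quotient.mk PB) = p := by
    show (p.map _).comap _ = p
    rw [Ideal.comap_map_of_surjective _ Ideal.Quotient.mk_surjective, ← RingHom.ker_eq_comap_bot,
      Ideal.mk_ker, sup_of_le_left hp]
  by_cases hpm : p = maximalIdeal B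
  · exact hpm ▸ le_maximalIdeal (Ideal.IsPrime.ne_top')
  · have : p' ∈ comap φ ⁻¹' W := by rw [hWeq]; exact (hpU p').mpr (by rwa [hpc])
    rw [hWT, Set.mem_singleton_iff] at this
    rw [← hpc, this, hqc]


theorem bijOn_of_dim_one (S B : Type u) [CommRing S] [HenselianLocalRing S] [IsNoetherianRing S]
    [CommRing B] [IsLocalRing B] [IsNoetherianRing B] [Algebra S B] [Module.Flat S B]
    [IsLocalHom (algebraMap S B)]
    (hm : (maximalIdeal S).map (algebraMap S B) = maximalIdeal B)
    (hres : ∀ y : B, ∃ x : S, y - algebraMap S B x ∈ maximalIdeal B) (hdim : ringKrullDim B = 1) :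
    Set.BijOn (Ideal.comap (algebraMap S B)) (minimalPrimes B) (minimalPrimes S) := by
  haveI : Module.FaithfullyFlat S B := Module.FaithfullyFlat.of_flat_of_isLocalHom
  haveI : Ring.KrullDimLE 1 B := Ring.krullDimLE_iff.mpr hdim.le
  refine ⟨mapsTo S B, fun q hq q₂ hq₂ h => ?_, surjOn S B⟩
  have key : ∀ r ∈ minimalPrimes B,
      ((r.comap (algebraMap S B)).map (algebraMap S B)).radical = r := fun r hr => by
    refine radical_eq S B hm hres r hr ?_ fun p hp hle => ?_
    · intro he
      have h1 : (maximalIdeal B).height = 0 := (Ideal.height_eq_zero_iff).mpr (he ▸ hr)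
      rw [← IsLocalRing.maximalIdeal_height_eq_ringKrullDim, h1] at hdim
      exact absurd hdim (by simp)
    · rcases Ring.krullDimLE_one_iff.mp ‹_› p hp with h' | h'
      · exact Or.inl (le_antisymm (h'.2 ⟨hr.isPrime, bot_le⟩ hle) hle)
      · exact Or.inr (IsLocalRing.eq_maximalIdeal h')
  rw [← key q hq, h, key q₂ hq₂]

variable (A : Type u) [CommRing A] [IsLocalRing A] [IsNoetherianRing A]

local notation "Ah" => AdicCompletion (maximalIdeal A) A

theorem numBranches_eq (hA : ringKrullDim A = 1) : Brnch.numBranches Ah = Brnch.numBranches A := by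
  obtain ⟨S, _, _, _, _, hS⟩ := Groth.L05.Henselization.exists_isHenselization A
  haveI := hS.henselian
  obtain ⟨ψ, hψ⟩ := exists_psi A S
  haveI := Groth.L05.Henselization.flat_of_isHenselization A S
  obtain ⟨_, _, _, hm, _, hres⟩ := hens_data A S ψ hψ
  letI := ψ.toAlgebra
  rw [numBranches_completion, ← Groth.L23.Branch.card_minimalPrimes_hens A S]
  exact encard_eq_of_bijOn (bijOn_of_dim_one S Ah hm hres
    ((Groth.L01.CompletionReg.ringKrullDim_completion A).trans hA))

theorem numGeomBranches_eq (hA : ringKrullDim A = 1) :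
    Brnch.numGeomBranches Ah = Brnch.numGeomBranches A := by
  obtain ⟨S, T, _, _, _, _, _, _, _, _, hm, _, hres, hS, hT, hd, _⟩ := strict_data A
  rw [← hS, ← hT]
  exact encard_eq_of_bijOn (bijOn_of_dim_one S T hm hres (hd.trans hA))

end Groth.L07.BrnchCompl
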