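import Groth.Agent.L07.BrnchCompl.Basic
import Groth.Agent.L05.Henselization.StrictUniq
import Groth.Agent.L01.CompletionReg
import Groth.Agent.L27.IndEtalePerm
import Groth.Agent.L27.OlivierMain
import Groth.Agent.L05.Henselization.FormEtale
import Mathlib.RingTheory.Henselian
import Mathlib.FieldTheory.IsSepClosed

/-! Minimal primes of (strict) henselizations against the completion. -/

set_option autoImplicit false
set_option backward.isDefEq.respectTransparency.types false
set_option linter.all false

universe u

open IsLocalRing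

namespace Groth.L07.BrnchCompl

theorem ext_data (A S B : Type u) [CommRing A] [IsLocalRing A] [CommRing S] [IsLocalRing S]
    [CommRing B] [IsLocalRing B] [Algebra A S] [Algebra A B] [Algebra S B] [IsScalarTower A S B]
    [Algebra.WeaklyEtale A S] [Module.Flat A B]
    (hS : (maximalIdeal A).map (algebraMap A S) = maximalIdeal S)
    (hB : (maximalIdeal A).map (algebraMap A B) = maximalIdeal B) :
    Module.Flat S B ∧ (maximalIdeal S).map (algebraMap S B) = maximalIdeal B ∧
      IsLocalHom (algebraMap S B) := by
  have hm : (maximalIdeal S).map (algebraMap S B) = maximalIdeal B := by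
    rw [← hS, Ideal.map_map, ← IsScalarTower.algebraMap_eq, hB]
  exact ⟨Groth.L20.flat_of_flat_of_flat_lmul (R := A) (T := S) (M := B)
    (Algebra.WeaklyEtale.flat_lmul' A S), hm, ((local_hom_TFAE (algebraMap S B)).out 0 2).mpr hm.le⟩

theorem encard_eq_of_bijOn {α β : Type u} {f : α → β} {s : Set α} {t : Set β} (h : Set.BijOn f s t) :
    s.encard = t.encard := by
  rw [← h.image_eq, h.injOn.encard_image]

theorem encard_le_of_surjOn {α β : Type u} {f : α → β} {s : Set α} {t : Set β} (h : Set.SurjOn f s t) :
    t.encard ≤ s.encard :=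
  (Set.encard_le_encard h).trans (Set.encard_image_le f s)

variable (A : Type u) [CommRing A] [IsLocalRing A] [IsNoetherianRing A]

local notation "Ah" => AdicCompletion (maximalIdeal A) A

theorem henselian_completion : HenselianLocalRing Ah := by
  have hm : maximalIdeal Ah = (maximalIdeal A).map (algebraMap A Ah) :=
    AdicCompletion.maximalIdeal_eq_map_of_fg (IsNoetherian.noetherian _)
  haveI : IsAdicComplete (maximalIdeal Ah) Ah := by
    rw [hm]
    exact (IsAdicComplete.map_algebraMap_iff _ Ah).mpr
      (AdicCompletion.isAdicComplete (IsNoetherian.noetherian _))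
  exact ⟨fun f hf a h1 h2 => HenselianRing.is_henselian f hf a h1 (h2.map _)⟩

/-- The completion is its own henselization. -/
theorem numBranches_completion : Brnch.numBranches Ah = (minimalPrimes Ah).encard := by
  haveI : HenselianLocalRing Ah := henselian_completion A
  haveI : IsLocalHom (algebraMap Ah Ah) := ⟨fun x hx => hx⟩
  haveI : Hensel.IsHenselization Ah Ah :=
    { henselian := inferInstance
      universal := fun T _ _ f _ => ⟨f, RingHom.comp_id f, fun g hg => (RingHom.comp_id g).symm.trans hg⟩ }
  exact (Groth.L23.Branch.card_minimalPrimes_hens Ah Ah).symm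

/-- The map from a henselization to the completion, with everything one needs to know about it. -/
theorem hens_data (S : Type u) [CommRing S] [IsLocalRing S] [Algebra A S] [IsLocalHom (algebraMap A S)]
    [Hensel.IsHenselization A S] (ψ : S →+* Ah) (hψ : ψ.comp (algebraMap A S) = algebraMap A Ah) :
    letI := ψ.toAlgebra
    IsNoetherianRing S ∧ IsNoetherianRing Ah ∧ Module.Flat S Ah ∧
      (maximalIdeal S).map (algebraMap S Ah) = maximalIdeal Ah ∧ IsLocalHom (algebraMap S Ah) ∧
      ∀ y : Ah, ∃ x : S, y - algebraMap S Ah x ∈ maximalIdeal Ah := by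
  letI := ψ.toAlgebra
  haveI : IsScalarTower A S Ah := IsScalarTower.of_algebraMap_eq' hψ.symm
  haveI : Algebra.WeaklyEtale A S := Groth.L05.Henselization.Branches.weaklyEtale_hens (R := A) (S := S)
  haveI : Module.FaithfullyFlat A Ah := Groth.L01.CompletionExt.faithfullyFlat A
  obtain ⟨h1, h2, h3⟩ := ext_data A S Ah
    (Groth.L05.Henselization.map_maximalIdeal_of_isHenselization A S)
    (Groth.L01.AnalUnram.completion_map_maximalIdeal A)
  refine ⟨(Groth.L05.Henselization.isNoetherianRing_iff_hens A S).mp inferInstance,
    Groth.L01.AnalUnram.isNoetherianRing_completion A, h1, h2, h3, fun y => ?_⟩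
  obtain ⟨r, hr⟩ := Groth.L01.AnalUnram.exists_sub_mem A y
  exact ⟨algebraMap A S r, by rwa [← IsScalarTower.algebraMap_apply]⟩

theorem exists_psi (S : Type u) [CommRing S] [IsLocalRing S] [Algebra A S] [IsLocalHom (algebraMap A S)]
    [hS : Hensel.IsHenselization A S] : ∃ ψ : S →+* Ah, ψ.comp (algebraMap A S) = algebraMap A Ah := by
  haveI : HenselianLocalRing Ah := henselian_completion A
  obtain ⟨g, hg, -⟩ := hS.universal Ah (algebraMap A Ah) (((local_hom_TFAE (algebraMap A Ah)).out 0 2).mpr
    (Groth.L01.AnalUnram.completion_map_maximalIdeal A).le)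
  exact ⟨g, hg⟩

theorem numBranches_le : Brnch.numBranches A ≤ Brnch.numBranches Ah := by
  obtain ⟨S, _, _, _, _, _⟩ := Groth.L05.Henselization.exists_isHenselization A
  obtain ⟨ψ, hψ⟩ := exists_psi A S
  haveI := Groth.L05.Henselization.flat_of_isHenselization A S
  obtain ⟨_, _, _, _, _, _⟩ := hens_data A S ψ hψ
  letI := ψ.toAlgebra
  rw [numBranches_completion, ← Groth.L23.Branch.card_minimalPrimes_hens A S]
  exact encard_le_of_surjOn (surjOn S Ah)

/-- The map between strict henselizations, with everything one needs to know about it. -/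
theorem strict_data : ∃ (S T : Type u) (_ : CommRing S) (_ : CommRing T) (_ : Algebra S T)
    (_ : HenselianLocalRing S) (_ : IsLocalRing T), IsNoetherianRing S ∧ IsNoetherianRing T ∧
      Module.Flat S T ∧ (maximalIdeal S).map (algebraMap S T) = maximalIdeal T ∧
      IsLocalHom (algebraMap S T) ∧ (∀ y : T, ∃ x : S, y - algebraMap S T x ∈ maximalIdeal T) ∧
      (minimalPrimes S).encard = Brnch.numGeomBranches A ∧
      (minimalPrimes T).encard = Brnch.numGeomBranches Ah ∧ ringKrullDim T = ringKrullDim A ∧
      ∃ (_ : Algebra A S) (_ : Algebra Ah T), EtPBC.IsIndEtale A S ∧ Module.Flat Ah T ∧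
        Algebra.FormallyEtale Ah T ∧
        (algebraMap S T).comp (algebraMap A S) = (algebraMap Ah T).comp (algebraMap A Ah) := by
  haveI := Groth.L01.AnalUnram.isNoetherianRing_completion A
  haveI : HenselianLocalRing Ah := henselian_completion A
  haveI : IsLocalHom (algebraMap A Ah) := ((local_hom_TFAE (algebraMap A Ah)).out 0 2).mpr
    (Groth.L01.AnalUnram.completion_map_maximalIdeal A).le
  obtain ⟨S, _, _, _, _, hS⟩ := Groth.L05.Henselization.exists_isStrictHenselization A
  obtain ⟨T, _, _, _, _, hT⟩ := Groth.L05.Henselization.exists_isStrictHenselization Ah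
  letI : Algebra A T := ((algebraMap Ah T).comp (algebraMap A Ah)).toAlgebra
  haveI : IsScalarTower A Ah T := IsScalarTower.of_algebraMap_eq' rfl
  haveI : IsLocalHom (algebraMap A T) := RingHom.isLocalHom_comp _ _
  haveI := hS.henselian
  haveI := hT.henselian
  haveI := hS.isSepClosure.separable
  haveI := hS.isSepClosure.sep_closed
  haveI := hT.isSepClosure.separable
  haveI := hT.isSepClosure.sep_closed
  haveI : IsScalarTower (ResidueField A) (ResidueField Ah) (ResidueField T) :=
    IsScalarTower.of_algebraMap_eq fun x => by obtain ⟨a, rfl⟩ := residue_surjective x; rfl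
  have hk : Function.Surjective (algebraMap (ResidueField A) (ResidueField Ah)) := fun x => by
    obtain ⟨y, rfl⟩ := residue_surjective x
    obtain ⟨r, hr⟩ := Groth.L01.AnalUnram.exists_sub_mem A y
    refine ⟨residue A r, ?_⟩
    show residue Ah (algebraMap A Ah r) = residue Ah y
    rw [← sub_eq_zero, ← map_sub, residue_eq_zero_iff, ← neg_sub]
    exact neg_mem hr
  haveI : Algebra.IsSeparable (ResidueField A) (ResidueField Ah) :=
    ⟨fun x => by obtain ⟨a, rfl⟩ := hk x; exact isSeparable_algebraMap a⟩
  haveI : Algebra.IsSeparable (ResidueField A) (ResidueField T) :=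
    Algebra.IsSeparable.trans (ResidueField A) (ResidueField Ah) (ResidueField T)
  haveI : IsSepClosure (ResidueField A) (ResidueField T) := ⟨inferInstance, inferInstance⟩
  haveI := hS.isSepClosure
  let τ : ResidueField S ≃ₐ[ResidueField A] ResidueField T :=
    IsSepClosure.equiv (ResidueField A) (ResidueField S) (ResidueField T)
  obtain ⟨g, ⟨hg, hgr⟩, -⟩ := hS.universal T (algebraMap A T) τ.toAlgHom.toRingHom τ.toAlgHom.comp_algebraMap
  letI : Algebra S T := g.toAlgebra
  haveI : IsScalarTower A S T := IsScalarTower.of_algebraMap_eq' hg.symm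
  haveI : Algebra.WeaklyEtale A S :=
    Groth.L27.IndEtale.weaklyEtale _ _ (Groth.L05.Henselization.isIndEtale_of_isStrictHenselization A S)
  haveI : Module.FaithfullyFlat A Ah := Groth.L01.CompletionExt.faithfullyFlat A
  haveI := Groth.L05.Henselization.flat_of_isStrictHenselization A S
  haveI := Groth.L05.Henselization.flat_of_isStrictHenselization Ah T
  haveI : Module.Flat A T := Module.Flat.trans A Ah T
  obtain ⟨h1, h2, h3⟩ := ext_data A S T
    (Groth.L05.Henselization.map_maximalIdeal_of_isStrictHenselization A S) (by
      rw [IsScalarTower.algebraMap_eq A Ah T, ← Ideal.map_map,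
        Groth.L01.AnalUnram.completion_map_maximalIdeal A,
        Groth.L05.Henselization.map_maximalIdeal_of_isStrictHenselization Ah T])
  refine ⟨S, T, inferInstance, inferInstance, inferInstance, inferInstance, inferInstance,
    (Groth.L05.Henselization.isNoetherianRing_iff_strict A S).mp inferInstance,
    (Groth.L05.Henselization.isNoetherianRing_iff_strict Ah T).mp inferInstance,
    h1, h2, h3, fun y => ?_, Groth.L23.Branch.card_minimalPrimes_strict A S,
    Groth.L23.Branch.card_minimalPrimes_strict Ah T,
    (Groth.L05.Henselization.ringKrullDim_strict Ah T).trans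
      (Groth.L01.CompletionReg.ringKrullDim_completion A),
    inferInstance, inferInstance, Groth.L05.Henselization.isIndEtale_of_isStrictHenselization A S,
    inferInstance, Groth.L05.Henselization.formallyEtale_strict Ah T, hg⟩
  obtain ⟨z, hz⟩ := τ.surjective (residue T y)
  obtain ⟨x, rfl⟩ := residue_surjective z
  refine ⟨x, ?_⟩
  rw [← residue_eq_zero_iff, map_sub, sub_eq_zero, ← hz]
  exact (hgr x).symm

theorem numGeomBranches_le : Brnch.numGeomBranches A ≤ Brnch.numGeomBranches Ah := by
  obtain ⟨S, T, _, _, _, _, _, _, _, _, _, _, _, hS, hT, _⟩ := strict_data A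
  rw [← hS, ← hT]
  exact encard_le_of_surjOn (surjOn S T)

end Groth.L07.BrnchCompl
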