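import Groth.Agent.L23.BranchCount
import Groth.Agent.L05.Henselization.Noeth
import Groth.Agent.L01.CompletionExt
import Groth.Agent.L20.TorAmpWeaklyEtale
import Mathlib.RingTheory.AdicCompletion.LocalRing
import Mathlib.RingTheory.Flat.FaithfullyFlat.Algebra
import Mathlib.RingTheory.Ideal.GoingDown
import Mathlib.RingTheory.KrullDimension.Basic

/-! Minimal primes of a flat local extension and of completions of (strict) henselizations. -/

set_option autoImplicit false
set_option backward.isDefEq.respectTransparency.types false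
set_option linter.all false

universe u

open IsLocalRing PrimeSpectrum

namespace Groth.L07.BrnchCompl

section

variable (S B : Type u) [CommRing S] [CommRing B] [Algebra S B] [Module.Flat S B]

theorem mapsTo : Set.MapsTo (Ideal.comap (algebraMap S B)) (minimalPrimes B) (minimalPrimes S) := by
  intro p hp
  haveI := hp.isPrime
  refine ⟨⟨Ideal.IsPrime.comap _, bot_le⟩, fun q hq hle => ?_⟩
  haveI := hq.1
  obtain ⟨P, hPp, hP, hPq⟩ := Ideal.exists_ideal_le_liesOver_of_le (p := q)
    (q := p.comap (algebraMap S B)) p hle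
  exact (Ideal.comap_mono (hp.2 ⟨hP, bot_le⟩ hPp)).trans_eq hPq.over.symm

theorem surjOn [IsLocalRing S] [IsLocalRing B] [IsLocalHom (algebraMap S B)] :
    Set.SurjOn (Ideal.comap (algebraMap S B)) (minimalPrimes B) (minimalPrimes S) := by
  haveI : Module.FaithfullyFlat S B := Module.FaithfullyFlat.of_flat_of_isLocalHom
  intro p hp
  haveI := hp.isPrime
  obtain ⟨P, hP⟩ := PrimeSpectrum.comap_surjective_of_faithfullyFlat (A := S) (B := B) ⟨p, inferInstance⟩
  obtain ⟨Q, hQ, hle⟩ := Ideal.exists_minimalPrimes_le (I := (⊥ : Ideal B)) (J := P.asIdeal) bot_le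
  have hPp : P.asIdeal.comap (algebraMap S B) = p := congrArg PrimeSpectrum.asIdeal hP
  exact ⟨Q, hQ, le_antisymm ((Ideal.comap_mono hle).trans hPp.le)
    (hp.2 ⟨haveI := hQ.isPrime; Ideal.IsPrime.comap _, bot_le⟩ ((Ideal.comap_mono hle).trans hPp.le))⟩

end

/-- Surjectivity modulo the maximal ideal propagates to all its powers. -/
theorem approx (S B : Type u) [CommRing S] [IsLocalRing S] [CommRing B] [Algebra S B]
    (hres : ∀ y : B, ∃ x : S, y - algebraMap S B x ∈ (maximalIdeal S).map (algebraMap S B))
    (N : ℕ) (y : B) :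
    ∃ x : S, y - algebraMap S B x ∈ (maximalIdeal S ^ N).map (algebraMap S B) := by
  induction N generalizing y with
  | zero => exact ⟨0, by rw [pow_zero, Ideal.one_eq_top, Ideal.map_top]; trivial⟩
  | succ N ih =>
    obtain ⟨x, hx⟩ := ih y
    suffices h : ∀ z ∈ (maximalIdeal S ^ N).map (algebraMap S B),
        ∃ x' : S, z - algebraMap S B x' ∈ (maximalIdeal S ^ (N + 1)).map (algebraMap S B) by
      obtain ⟨x', hx'⟩ := h _ hx
      exact ⟨x + x', by rwa [map_add, ← sub_sub]⟩
    intro z hz
    induction hz using Submodule.span_induction with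
    | mem w hw =>
      obtain ⟨a, ha, rfl⟩ := hw
      exact ⟨a, by simp⟩
    | zero => exact ⟨0, by simp⟩
    | add a b _ _ ha hb =>
      obtain ⟨u, hu⟩ := ha
      obtain ⟨v, hv⟩ := hb
      exact ⟨u + v, by rw [map_add, add_sub_add_comm]; exact add_mem hu hv⟩
    | smul c w hwm hw =>
      obtain ⟨u, hu⟩ := hw
      obtain ⟨v, hv⟩ := hres c
      refine ⟨v * u, ?_⟩
      rw [smul_eq_mul, map_mul, show c * w - algebraMap S B v * algebraMap S B u =
        (c - algebraMap S B v) * w + algebraMap S B v * (w - algebraMap S B u) by ring]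
      refine add_mem ?_ (Ideal.mul_mem_left _ _ hu)
      rw [pow_succ', Ideal.map_mul]
      exact Ideal.mul_mem_mul hv hwm

end Groth.L07.BrnchCompl
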