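import Groth.Agent.L07.BrnchCompl.Compl
import Groth.Agent.L05.Henselization.FormalDomain
import Groth.Agent.L05.Henselization.FormEtale
import Groth.Agent.L05.Henselization.RegularEtale
import Groth.Agent.L06.NormalHensel
import Groth.Agent.L06.PropInstances
import Groth.Agent.L06.FormalFibres

/-! Branches of a completion when the formal fibres are geometrically normal. -/

set_option autoImplicit false
set_option backward.isDefEq.respectTransparency.types false
set_option maxSynthPendingDepth 3
set_option linter.all false

universe u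

open IsLocalRing TensorProduct

namespace Groth.L07.BrnchCompl

/-- Along a normal local map without residue extension out of a henselian ring, primes stay prime. -/
theorem map_isPrime (S B : Type u) [CommRing S] [HenselianLocalRing S] [IsNoetherianRing S] [CommRing B]
    [IsLocalRing B] [IsNoetherianRing B] [Algebra S B] [IsLocalHom (algebraMap S B)]
    (h : EGA4.IsNormalHom S B) (hres : ∀ y : B, ∃ x : S, y - algebraMap S B x ∈ maximalIdeal B)
    (P : Ideal S) [P.IsPrime] : (P.map (algebraMap S B)).IsPrime := by
  haveI : Module.Flat S B := h.1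
  let N := integralClosure (S ⧸ P) (FractionRing (S ⧸ P))
  haveI : IsIntegrallyClosed N :=
    integralClosure.isIntegrallyClosedOfFiniteExtension (FractionRing (S ⧸ P))
      (L := FractionRing (S ⧸ P))
  haveI : Algebra.IsIntegral (S ⧸ P) N := IsIntegralClosure.isIntegral_algebra (S ⧸ P) (FractionRing (S ⧸ P))
  haveI : Algebra.IsIntegral S N := Algebra.IsIntegral.trans (S ⧸ P)
  haveI : IsLocalRing N := Groth.L05.isLocalRing_of_integral_domain (A := S) N
  haveI := Groth.L05.Henselization.Branches.isLocalRing_tensor_of_surjective S B N hres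
  haveI : IsLocalRing (B ⊗[S] N) :=
    (Algebra.TensorProduct.comm S B N).symm.toRingEquiv.isLocalRing
  have hn := (Groth.L06.NormalTensor.normal_tensor_domain (A := S) (A' := B) h N).1
  haveI := (hn (maximalIdeal (B ⊗[S] N))).1
  haveI : IsDomain (B ⊗[S] N) := Function.Injective.isDomain
    (algebraMap (B ⊗[S] N) (Localization.AtPrime (maximalIdeal (B ⊗[S] N))))
    ((IsLocalization.atUnits (B ⊗[S] N) (maximalIdeal (B ⊗[S] N)).primeCompl
      fun x hx => IsLocalRing.notMem_maximalIdeal.mp hx).injective)
  let g := Algebra.TensorProduct.map (AlgHom.id S B) (IsScalarTower.toAlgHom S (S ⧸ P) N)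
  have hg : Function.Injective g :=
    Module.Flat.lTensor_preserves_injective_linearMap (M := B)
      (IsScalarTower.toAlgHom S (S ⧸ P) N).toLinearMap (FaithfulSMul.algebraMap_injective (S ⧸ P) N)
  let e := Algebra.TensorProduct.quotIdealMapEquivTensorQuot B P
  haveI : IsDomain (B ⊗[S] (S ⧸ P)) := Function.Injective.isDomain g hg
  haveI : IsDomain (B ⧸ P.map (algebraMap S B)) := e.toRingEquiv.toMulEquiv.isDomain _
  exact (Ideal.Quotient.isDomain_iff_prime _).mp inferInstance

theorem bijOn_of_normal (S B : Type u) [CommRing S] [HenselianLocalRing S] [IsNoetherianRing S] [CommRing B]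
    [IsLocalRing B] [IsNoetherianRing B] [Algebra S B] [IsLocalHom (algebraMap S B)]
    (h : EGA4.IsNormalHom S B) (hres : ∀ y : B, ∃ x : S, y - algebraMap S B x ∈ maximalIdeal B) :
    Set.BijOn (Ideal.comap (algebraMap S B)) (minimalPrimes B) (minimalPrimes S) := by
  haveI : Module.Flat S B := h.1
  refine ⟨mapsTo S B, fun q hq q₂ hq₂ he => ?_, surjOn S B⟩
  have key : ∀ r ∈ minimalPrimes B, (r.comap (algebraMap S B)).map (algebraMap S B) = r := fun r hr => by
    haveI := hr.isPrime
    haveI := map_isPrime S B h hres (r.comap (algebraMap S B))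
    exact le_antisymm Ideal.map_comap_le (hr.2 ⟨inferInstance, bot_le⟩ Ideal.map_comap_le)
  rw [← key q hq, he, key q₂ hq₂]

variable (A : Type u) [CommRing A] [IsLocalRing A] [IsNoetherianRing A]

local notation "Ah" => AdicCompletion (maximalIdeal A) A

theorem numBranches_eq_of_normal (hA : EGA4.HasGeomNormalFormalFibres A) :
    Brnch.numBranches Ah = Brnch.numBranches A := by
  obtain ⟨S, _, _, _, _, hS⟩ := Groth.L05.Henselization.exists_isHenselization A
  haveI := hS.henselian
  obtain ⟨ψ, hψ⟩ := exists_psi A S
  haveI := Groth.L05.Henselization.flat_of_isHenselization A S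
  obtain ⟨_, _, _, _, _, hres⟩ := hens_data A S ψ hψ
  letI := ψ.toAlgebra
  haveI : IsScalarTower A S Ah := IsScalarTower.of_algebraMap_eq' hψ.symm
  obtain ⟨eh⟩ := Groth.L05.Henselization.henselization_algEquiv A S
  have h : EGA4.IsNormalHom S Ah := Groth.L06.NormalHensel.isNormalHom_of_indEtale
    (Groth.L05.Henselization.isIndEtale_of_isHenselization A S)
    (Groth.L06.Unibranch.isNormalHom_cpl A hA)
  rw [numBranches_completion, ← Groth.L23.Branch.card_minimalPrimes_hens A S]
  exact encard_eq_of_bijOn (bijOn_of_normal S Ah h hres)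

theorem numGeomBranches_eq_of_normal (hA : EGA4.HasGeomNormalFormalFibres A) :
    Brnch.numGeomBranches Ah = Brnch.numGeomBranches A := by
  obtain ⟨S, T, _, _, _, _, _, _, hTN, _, _, _, hres, hS, hT, _, iA, iB, hAS, hflat, hfe, hcomp⟩ :=
    strict_data A
  letI := iA
  letI := iB
  letI : Algebra A T := ((algebraMap Ah T).comp (algebraMap A Ah)).toAlgebra
  haveI : IsScalarTower A Ah T := IsScalarTower.of_algebraMap_eq' rfl
  haveI : IsScalarTower A S T := IsScalarTower.of_algebraMap_eq' hcomp.symm
  haveI := hflat
  haveI := hfe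
  haveI := hTN
  haveI := Groth.L01.AnalUnram.isNoetherianRing_completion A
  haveI : Module.FaithfullyFlat A Ah := Groth.L01.CompletionExt.faithfullyFlat A
  haveI : Module.Flat A T := Module.Flat.trans A Ah T
  have hAT : EGA4.IsNormalHom A T :=
    ⟨inferInstance, Groth.L06.GeomHom.comp Groth.L06.PropLoc.good_nor
      (fun p _ => (Groth.L06.Unibranch.isNormalHom_cpl A hA).2 p)
      (fun p _ => (Groth.L06.FormalFibres.isNormalHom_of_isRegularHom
        (Groth.L05.Henselization.isRegularHom_of_formallyEtale Ah T)).2 p)⟩
  have h : EGA4.IsNormalHom S T := Groth.L06.NormalHensel.isNormalHom_of_indEtale hAS hAT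
  rw [← hS, ← hT]
  exact encard_eq_of_bijOn (bijOn_of_normal S T h hres)

end Groth.L07.BrnchCompl
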