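import Groth.Agent.L07.BrnchCompl.Basic
import Mathlib.RingTheory.Flat.EquationalCriterion
import Mathlib.RingTheory.Henselian
import Mathlib.RingTheory.Spectrum.Prime.Topology

/-! The punctured spectrum of a henselian local ring against that of its completion. -/

set_option autoImplicit false
set_option backward.isDefEq.respectTransparency.types false
set_option linter.all false

universe u

open IsLocalRing PrimeSpectrum

namespace Groth.L07.BrnchCompl

variable {S R : Type u} [CommRing S] [CommRing R] [Algebra S R]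

/-- Solutions of a linear system in a flat algebra come from solutions over the base. -/
theorem sol [Module.Flat S R] {κ μ : Type} [Fintype κ] [Fintype μ] (E : μ → κ → S) (x : κ → R)
    (h : ∀ m, ∑ k, algebraMap S R (E m k) * x k = 0) :
    ∃ (n : ℕ) (a : Fin n → κ → S) (y : Fin n → R), (∀ j m, ∑ k, E m k * a j k = 0) ∧
      ∀ k, x k = ∑ j, y j * algebraMap S R (a j k) := by
  classical
  obtain ⟨n, a, y, hxy, haf⟩ := Module.Flat.exists_factorization_of_comp_eq_zero_of_free
    (f := Fintype.linearCombination S E) (x := Fintype.linearCombination S x) (by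
      refine LinearMap.pi_ext' fun m => LinearMap.ext_ring ?_
      simp [Fintype.linearCombination_apply, Pi.single_apply, Algebra.smul_def, h m])
  refine ⟨n, fun j k => a (Pi.single k 1) j, fun j => y (Finsupp.single j 1), fun j m => ?_, fun k => ?_⟩
  · have h1 := DFunLike.congr_fun (LinearMap.congr_fun haf (Pi.single m 1)) j
    simp only [LinearMap.comp_apply, LinearMap.zero_apply, Finsupp.zero_apply] at h1
    rw [Fintype.linearCombination_apply_single, one_smul] at h1
    rw [pi_eq_sum_univ' (E m)] at h1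
    simpa [map_sum, Finsupp.finsetSum_apply] using h1
  · have h1 := LinearMap.congr_fun hxy (Pi.single k 1)
    rw [Fintype.linearCombination_apply_single, one_smul, LinearMap.comp_apply] at h1
    rw [h1, ← Finsupp.univ_sum_single (a (Pi.single k 1))]
    simp only [map_sum, Finsupp.finsetSum_apply, Finsupp.single_apply, Finset.sum_ite_eq',
      Finset.mem_univ, if_true]
    refine Finset.sum_congr rfl fun j _ => ?_
    rw [← mul_one (a (Pi.single k 1) j), ← smul_eq_mul, ← Finsupp.smul_single, map_smul,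
      Algebra.smul_def, smul_eq_mul, mul_one, mul_comm]

theorem sum_single_sub {κ : Type} [Fintype κ] [DecidableEq κ] {T : Type u} [CommRing T] (g : S →+* T)
    (a b : κ) (x y : S) (z : κ → T) :
    ∑ k, g ((Pi.single a x - Pi.single b y : κ → S) k) * z k = g x * z a - g y * z b := by
  simp [Pi.single_apply, sub_mul, Finset.sum_sub_distrib, apply_ite g]

variable [IsLocalRing S] [IsLocalRing R]

theorem not_preconnected [Module.Flat S R] [HenselianLocalRing S] [IsNoetherianRing S]
    [IsNoetherianRing R] (hm : (maximalIdeal S).map (algebraMap S R) = maximalIdeal R)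
    (hres : ∀ y : R, ∃ x : S, y - algebraMap S R x ∈ maximalIdeal R)
    (I J : Ideal R) (n : ℕ) (hIJ : I * J = ⊥) (hn : maximalIdeal R ^ n ≤ I ⊔ J)
    (P₁ P₂ : PrimeSpectrum R) (h1 : P₁ ≠ closedPoint R) (h2 : P₂ ≠ closedPoint R)
    (hI : I ≤ P₁.asIdeal) (hJ : J ≤ P₂.asIdeal) :
    ¬ IsPreconnected ({closedPoint S}ᶜ : Set (PrimeSpectrum S)) := by
  classical
  let φ := algebraMap S R
  haveI hφ : IsLocalHom φ := ((local_hom_TFAE φ).out 0 2).mpr hm.le
  have hz : ∀ {a b : R}, a ∈ I → b ∈ J → a * b = 0 := fun ha hb =>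
    Ideal.mem_bot.mp (hIJ ▸ Ideal.mul_mem_mul ha hb)
  obtain ⟨r, c, hc⟩ := Submodule.fg_iff_exists_fin_generating_family.mp
    (IsNoetherian.noetherian (maximalIdeal S ^ n))
  have hcspan : (maximalIdeal S ^ n).map φ = Ideal.span (Set.range fun l => φ (c l)) := by
    rw [← hc, Ideal.submodule_span_eq, Ideal.map_span, ← Set.range_comp]
    rfl
  have hcm : ∀ l, φ (c l) ∈ I ⊔ J := fun l => hn (by
    rw [← hm, ← Ideal.map_pow, hcspan]
    exact Ideal.subset_span ⟨l, rfl⟩)
  choose y hy u hu hyu using fun l => Submodule.mem_sup.mp (hcm l)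
  have huI : ∀ l, φ (c l) - u l ∈ I := fun l => by
    rw [show φ (c l) - u l = y l by rw [← hyu l]; ring]; exact hy l
  have hcomm : ∀ i a k, (u i * φ (c a) - φ (c i) * u a) * φ (c k) = 0 := by
    intro i a k
    have e1 : u i * φ (c a) - φ (c i) * u a ∈ I := by
      rw [show u i * φ (c a) - φ (c i) * u a =
        φ (c i) * (φ (c a) - u a) - φ (c a) * (φ (c i) - u i) by ring]
      exact sub_mem (I.mul_mem_left _ (huI a)) (I.mul_mem_left _ (huI i))
    have e2 : u i * φ (c a) - φ (c i) * u a ∈ J :=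
      sub_mem (J.mul_mem_right _ (hu i)) (J.mul_mem_left _ (hu a))
    rw [← hyu k, mul_add, mul_comm _ (y k), hz (hy k) e2, hz e1 (hu k), add_zero]
  let ι := Fin r × Fin r
  let C : ι → S := fun p => c p.1 * c p.2
  let U : ι → R := fun p => u p.1 * φ (c p.2)
  have hUC : ∀ p q : ι, U p * φ (C q) = φ (C p) * U q := by
    rintro ⟨i, k⟩ ⟨a, b⟩
    simp only [U, C, map_mul]
    linear_combination φ (c b) * hcomm i a k
  have hUU : ∀ p q : ι, U p * U q = U p * φ (C q) := by
    rintro ⟨i, k⟩ ⟨a, b⟩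
    simp only [U, C, map_mul]
    linear_combination -(φ (c k) * φ (c b)) * (hz (huI a) (hu i))
  -- first descent: `U = v + a C` with `v` over `S`
  let E : (Fin r × ι) ⊕ (ι × ι) → ι ⊕ Fin r → S := Sum.elim
    (fun lp => Pi.single (Sum.inl lp.2) (c lp.1) - Pi.single (Sum.inr lp.1) (C lp.2))
    (fun pq => Pi.single (Sum.inl pq.2) (C pq.1) - Pi.single (Sum.inl pq.1) (C pq.2))
  obtain ⟨N, A, Y, hA, hY⟩ := sol (R := R) E (Sum.elim U u) (by
    rintro (⟨l, i, k⟩ | ⟨p, q⟩)
    · simp only [E, Sum.elim_inl, sum_single_sub, Sum.elim_inr]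
      simp only [U, C, map_mul]
      linear_combination hcomm i l k
    · simp only [E, Sum.elim_inl, sum_single_sub, Sum.elim_inr]
      linear_combination -(hUC p q))
  have hA1 : ∀ j l p, c l * A j (Sum.inl p) = C p * A j (Sum.inr l) := fun j l p => sub_eq_zero.mp (by
    have h := hA j (Sum.inl (l, p))
    exact (sum_single_sub (RingHom.id S) (Sum.inl p) (Sum.inr l) (c l) (C p) (A j)).symm.trans h)
  have hA2 : ∀ j p q, C p * A j (Sum.inl q) = C q * A j (Sum.inl p) := fun j p q => sub_eq_zero.mp (by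
    have h := hA j (Sum.inr (p, q))
    exact (sum_single_sub (RingHom.id S) (Sum.inl q) (Sum.inl p) (C p) (C q) (A j)).symm.trans h)
  choose s hs using fun j => approx S R (fun y => by rw [hm]; exact hres y) n (Y j)
  have ht : ∀ j, ∃ b : R, ∀ p, (Y j - φ (s j)) * φ (A j (Sum.inl p)) = b * φ (C p) := by
    intro j
    have hmem : Y j - φ (s j) ∈ Ideal.span (Set.range fun l => φ (c l)) := hcspan ▸ hs j
    revert hmem
    generalize Y j - φ (s j) = t
    intro ht
    induction ht using Submodule.span_induction with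
    | mem w hw =>
      obtain ⟨l, rfl⟩ := hw
      exact ⟨φ (A j (Sum.inr l)), fun p => by rw [← map_mul, hA1, map_mul, mul_comm]⟩
    | zero => exact ⟨0, by simp⟩
    | add w w' _ _ hw hw' =>
      obtain ⟨b, hb⟩ := hw
      obtain ⟨b', hb'⟩ := hw'
      exact ⟨b + b', fun p => by linear_combination hb p + hb' p⟩
    | smul e w _ hw =>
      obtain ⟨b, hb⟩ := hw
      exact ⟨e * b, fun p => by rw [smul_eq_mul]; linear_combination e * hb p⟩
  choose b hb using ht
  obtain ⟨s₀, hs₀⟩ := hres (∑ j, b j)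
  let v : ι → S := fun p => (∑ j, s j * A j (Sum.inl p)) + s₀ * C p
  let a : R := (∑ j, b j) - φ s₀
  have hv : ∀ p, φ (v p) = U p - a * φ (C p) := by
    intro p
    have e : U p = ∑ j, Y j * φ (A j (Sum.inl p)) := hY (Sum.inl p)
    have e2 : ∑ j, Y j * φ (A j (Sum.inl p)) - ∑ j, φ (s j) * φ (A j (Sum.inl p)) =
        (∑ j, b j) * φ (C p) := by
      rw [← Finset.sum_sub_distrib, Finset.sum_mul]
      exact Finset.sum_congr rfl fun j _ => by linear_combination hb j p
    simp only [v, a, map_add, map_mul, map_sum]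
    linear_combination -e - e2
  have hvC : ∀ p q, C p * v q = C q * v p := fun p q => by
    simp only [v, mul_add, Finset.mul_sum]
    congr 1
    · exact Finset.sum_congr rfl fun j _ => by linear_combination s j * hA2 j p q
    · ring
  -- second descent: the quadratic equation of `v`
  let F : ι × ι → Fin 3 → S := fun pq =>
    ![v pq.1 * v pq.2, -(v pq.1 * C pq.2), -(C pq.1 * C pq.2)]
  obtain ⟨M, B, Z, hB, hZ⟩ := sol (R := R) F ![1, 1 - 2 * a, a - a ^ 2] (by
    rintro ⟨p, q⟩
    simp [F, Fin.sum_univ_three]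
    change φ (v p) * φ (v q) + -(φ (v p) * φ (C q) * (1 - 2 * a)) +
      -(φ (C p) * φ (C q) * (a - a ^ 2)) = 0
    rw [hv p, hv q]
    linear_combination hUU p q + a * hUC p q)
  choose z hzz using fun j => hres (Z j)
  let w : Fin 3 → S := fun k => ∑ j, z j * B j k
  have hw : ∀ p q, v p * v q * w 0 = v p * C q * w 1 + C p * C q * w 2 := by
    intro p q
    simp only [w, Finset.mul_sum, ← Finset.sum_add_distrib]
    refine Finset.sum_congr rfl fun j _ => ?_
    have := hB j (p, q)
    simp [F, Fin.sum_univ_three] at this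
    linear_combination z j * this
  have hwm : ∀ k, φ (w k) - ![1, 1 - 2 * a, a - a ^ 2] k ∈ maximalIdeal R := by
    intro k
    rw [hZ k]
    simp only [w, map_sum, map_mul, ← Finset.sum_sub_distrib, ← sub_mul]
    refine Ideal.sum_mem _ fun j _ => ?_
    change φ (z j) * φ (B j k) - Z j * φ (B j k) ∈ _
    rw [← sub_mul]
    exact Ideal.mul_mem_right _ _ ((neg_sub (Z j) (φ (z j))) ▸ neg_mem (hzz j))
  have ha : a ∈ maximalIdeal R := hs₀
  have hmem : ∀ x : S, φ x ∈ maximalIdeal R ↔ x ∈ maximalIdeal S := fun x => by simp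
  have u0 : IsUnit (w 0) := by
    refine notMem_maximalIdeal.mp fun h => ?_
    have := sub_mem ((hmem _).mpr h) (hwm 0)
    simp [maximalIdeal.isMaximal R |>.ne_top, ← Ideal.eq_top_iff_one] at this
  obtain ⟨w', hw'⟩ := u0.exists_right_inv
  have u1 : IsUnit (w 1) := by
    refine notMem_maximalIdeal.mp fun h => ?_
    have := add_mem (sub_mem ((hmem _).mpr h) (hwm 1)) (Ideal.mul_mem_left _ 2 ha)
    simp [maximalIdeal.isMaximal R |>.ne_top, ← Ideal.eq_top_iff_one] at this
  have m2 : w 2 ∈ maximalIdeal S := by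
    refine (hmem _).mp ?_
    have h := hwm 2
    simp at h
    have : φ (w 2) = (φ (w 2) - (a - a ^ 2)) + a * (1 - a) := by ring
    rw [this]
    exact add_mem (by simpa using hwm 2) (Ideal.mul_mem_right _ _ ha)
  let α := w' * w 1
  let β := w' * w 2
  have hαu : IsUnit α := (IsUnit.of_mul_eq_one _ (by rw [mul_comm]; exact hw')).mul u1
  have hβ : β ∈ maximalIdeal S := Ideal.mul_mem_left _ _ m2
  open Polynomial in
  obtain ⟨ρ, hρ, hρm⟩ := HenselianLocalRing.is_henselian
    (X ^ 2 - Polynomial.C α * X - Polynomial.C β) (by monicity!) 0 (by simpa using hβ) (by simpa using hαu)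
  have hρ' : ρ ^ 2 - α * ρ - β = 0 := by simpa [Polynomial.IsRoot.def] using hρ
  rw [sub_zero] at hρm
  let P : ι → S := fun p => v p - ρ * C p
  let Q : ι → S := fun p => (α - ρ) * C p - v p
  have hPQ : ∀ p q, P p * Q q = 0 := by
    intro p q
    simp only [P, Q]
    linear_combination -w' * hw p q + v p * v q * hw' + ρ * hvC p q + C p * C q * hρ'
  intro hc'
  let O₁ : Set (PrimeSpectrum S) := ⋃ p, (basicOpen (P p) : Set (PrimeSpectrum S))
  let O₂ : Set (PrimeSpectrum S) := ⋃ p, (basicOpen (Q p) : Set (PrimeSpectrum S))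
  have hδ : IsUnit (α - ρ - ρ) := by
    refine notMem_maximalIdeal.mp fun h => ?_
    exact notMem_maximalIdeal.mpr hαu (by
      rw [show α = (α - ρ - ρ) + (ρ + ρ) by ring]
      exact add_mem h (add_mem hρm hρm))
  have hexC : ∀ (𝔭 : PrimeSpectrum R), 𝔭 ≠ closedPoint R → ∃ p, φ (C p) ∉ 𝔭.asIdeal := by
    intro 𝔭 h𝔭
    by_contra hne
    push Not at hne
    have h1 : (maximalIdeal S ^ n).map φ ≤ 𝔭.asIdeal := by
      rw [hcspan, Ideal.span_le]
      rintro _ ⟨l, rfl⟩
      exact (𝔭.isPrime.mem_or_mem (by simpa [C] using hne (l, l))).elim id id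
    rw [Ideal.map_pow, hm] at h1
    exact h𝔭 (PrimeSpectrum.ext ((maximalIdeal.isMaximal R).eq_of_le 𝔭.isPrime.ne_top
      (𝔭.isPrime.le_of_pow_le h1)).symm)
  have hne : ∀ (𝔭 : PrimeSpectrum R), 𝔭 ≠ closedPoint R →
      PrimeSpectrum.comap φ 𝔭 ∈ ({closedPoint S}ᶜ : Set (PrimeSpectrum S)) := by
    intro 𝔭 h𝔭 h
    obtain ⟨p, hp⟩ := hexC 𝔭 h𝔭
    refine h𝔭 (PrimeSpectrum.ext ((maximalIdeal.isMaximal R).eq_of_le 𝔭.isPrime.ne_top ?_).symm)
    rw [← hm, Ideal.map_le_iff_le_comap]
    exact (congrArg PrimeSpectrum.asIdeal (Set.mem_singleton_iff.mp h)).ge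
  have hunit : ∀ x ∈ maximalIdeal R, IsUnit (1 - x) := fun x hx =>
    isUnit_one_sub_self_of_mem_nonunits x hx
  obtain ⟨x, hx, hx1, hx2⟩ := hc' O₁ O₂ (isOpen_iUnion fun _ => isOpen_basicOpen)
    (isOpen_iUnion fun _ => isOpen_basicOpen) (by
      intro x hx
      have : ∃ p, C p ∉ x.asIdeal := by
        by_contra hh
        push Not at hh
        have h1 : maximalIdeal S ^ n ≤ x.asIdeal := by
          rw [← hc, Ideal.submodule_span_eq, Ideal.span_le]
          rintro _ ⟨l, rfl⟩
          exact (x.isPrime.mem_or_mem (hh (l, l))).elim id id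
        exact hx (PrimeSpectrum.ext ((maximalIdeal.isMaximal S).eq_of_le x.isPrime.ne_top
          (x.isPrime.le_of_pow_le h1)).symm)
      obtain ⟨p, hp⟩ := this
      by_contra hh
      simp only [O₁, O₂, Set.mem_union, Set.mem_iUnion, SetLike.mem_coe, mem_basicOpen,
        not_or, not_exists, not_not] at hh
      have h3 : (α - ρ - ρ) * C p ∈ x.asIdeal := by
        rw [show (α - ρ - ρ) * C p = P p + Q p by simp only [P, Q]; ring]
        exact add_mem (hh.1 p) (hh.2 p)
      rw [Ideal.unit_mul_mem_iff_mem _ hδ] at h3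
      exact hp h3) (by
      obtain ⟨p, hp⟩ := hexC P₁ h1
      refine ⟨_, hne P₁ h1, Set.mem_iUnion.mpr ⟨p, ?_⟩⟩
      intro h
      change φ (P p) ∈ P₁.asIdeal at h
      have hu' : IsUnit (1 - (a + φ ρ)) := hunit _ (add_mem ha ((hmem _).mpr hρm))
      have : (1 - (a + φ ρ)) * φ (C p) ∈ P₁.asIdeal := by
        have e : (1 - (a + φ ρ)) * φ (C p) = φ (P p) + (φ (c p.1) - u p.1) * φ (c p.2) := by
          simp only [P, map_sub, map_mul, hv, U]
          simp only [C, map_mul]
          ring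
        rw [e]
        exact add_mem h (hI (I.mul_mem_right _ (huI _)))
      exact hp ((Ideal.unit_mul_mem_iff_mem _ hu').mp this)) (by
      obtain ⟨p, hp⟩ := hexC P₂ h2
      refine ⟨_, hne P₂ h2, Set.mem_iUnion.mpr ⟨p, ?_⟩⟩
      intro h
      change φ (Q p) ∈ P₂.asIdeal at h
      have hu' : IsUnit (φ (α - ρ) + a) := by
        refine notMem_maximalIdeal.mp fun hh => ?_
        refine notMem_maximalIdeal.mpr (hαu.map φ) ?_
        rw [show φ α = (φ (α - ρ) + a) + (φ ρ - a) by rw [map_sub]; ring]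
        exact add_mem hh (sub_mem ((hmem _).mpr hρm) ha)
      have : (φ (α - ρ) + a) * φ (C p) ∈ P₂.asIdeal := by
        have e : (φ (α - ρ) + a) * φ (C p) = φ (Q p) + U p := by
          simp only [Q, map_sub, map_mul, hv]; ring
        rw [e]
        exact add_mem h (hJ (J.mul_mem_right _ (hu _)))
      exact hp ((Ideal.unit_mul_mem_iff_mem _ hu').mp this))
  simp only [O₁, O₂, Set.mem_iUnion, SetLike.mem_coe, mem_basicOpen] at hx1 hx2
  obtain ⟨p, hp⟩ := hx1
  obtain ⟨q, hq⟩ := hx2
  exact (x.isPrime.mem_or_mem (hPQ p q ▸ x.asIdeal.zero_mem)).elim hp hq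

theorem preconnected_iff [Module.Flat S R] [HenselianLocalRing S] [IsNoetherianRing S]
    [IsNoetherianRing R] (hm : (maximalIdeal S).map (algebraMap S R) = maximalIdeal R)
    (hres : ∀ y : R, ∃ x : S, y - algebraMap S R x ∈ maximalIdeal R) :
    IsPreconnected ({closedPoint R}ᶜ : Set (PrimeSpectrum R)) ↔
      IsPreconnected ({closedPoint S}ᶜ : Set (PrimeSpectrum S)) := by
  haveI hφ : IsLocalHom (algebraMap S R) := ((local_hom_TFAE _).out 0 2).mpr hm.le
  haveI : Module.FaithfullyFlat S R := Module.FaithfullyFlat.of_flat_of_isLocalHom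
  constructor
  · intro h
    have e : PrimeSpectrum.comap (algebraMap S R) '' {closedPoint R}ᶜ = {closedPoint S}ᶜ := by
      ext p
      constructor
      · rintro ⟨q, hq, rfl⟩ h
        refine hq (PrimeSpectrum.ext ((maximalIdeal.isMaximal R).eq_of_le q.isPrime.ne_top ?_).symm)
        rw [← hm, Ideal.map_le_iff_le_comap]
        exact (congrArg PrimeSpectrum.asIdeal (Set.mem_singleton_iff.mp h)).ge
      · intro hp
        obtain ⟨q, rfl⟩ := PrimeSpectrum.comap_surjective_of_faithfullyFlat (A := S) (B := R) p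
        refine ⟨q, fun h => hp ?_, rfl⟩
        rw [Set.mem_singleton_iff.mp h]
        exact comap_closedPoint (algebraMap S R)
    exact e ▸ h.image _ (PrimeSpectrum.continuous_comap _).continuousOn
  · intro hS
    by_contra hR
    simp only [IsPreconnected, not_forall] at hR
    obtain ⟨o₁, o₂, ho₁, ho₂, hcov, ⟨P₁, hP₁, hP₁'⟩, ⟨P₂, hP₂, hP₂'⟩, hdisj⟩ := hR
    have hP₁2 : P₁ ∉ o₂ := fun h => hdisj ⟨P₁, hP₁, hP₁', h⟩
    have hP₂1 : P₂ ∉ o₁ := fun h => hdisj ⟨P₂, hP₂, h, hP₂'⟩
    have hclosed : closedPoint R ∉ o₁ ∩ o₂ := fun h => hdisj ⟨P₁, hP₁,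
      (specializes_closedPoint P₁).mem_open (ho₁.inter ho₂) h⟩
    let I₀ := vanishingIdeal (o₂ᶜ)
    let J₀ := vanishingIdeal (o₁ᶜ)
    have hI₀ : zeroLocus (I₀ : Set R) = o₂ᶜ := by
      rw [zeroLocus_vanishingIdeal_eq_closure, ho₂.isClosed_compl.closure_eq]
    have hJ₀ : zeroLocus (J₀ : Set R) = o₁ᶜ := by
      rw [zeroLocus_vanishingIdeal_eq_closure, ho₁.isClosed_compl.closure_eq]
    have hnil : I₀ * J₀ ≤ nilradical R := by
      intro x hx
      rw [nilradical, Ideal.radical_eq_sInf, Submodule.mem_sInf]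
      rintro q ⟨-, hq⟩
      have : (⟨q, hq⟩ : PrimeSpectrum R) ∈ o₂ᶜ ∪ o₁ᶜ := by
        by_contra h
        simp only [Set.mem_union, Set.mem_compl_iff, not_or, not_not] at h
        by_cases hcl : (⟨q, hq⟩ : PrimeSpectrum R) = closedPoint R
        · exact hclosed (hcl ▸ ⟨h.2, h.1⟩)
        · exact hdisj ⟨_, hcl, h.2, h.1⟩
      rw [← hI₀, ← hJ₀, ← zeroLocus_mul] at this
      exact this hx
    obtain ⟨k, hk⟩ := IsNoetherianRing.isNilpotent_nilradical R
    have hIJ : I₀ ^ (k + 1) * J₀ ^ (k + 1) = ⊥ := by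
      rw [← mul_pow, eq_bot_iff]
      refine (Ideal.pow_right_mono hnil _).trans ?_
      rw [pow_succ, hk, zero_mul]; exact le_rfl
    have hrad : maximalIdeal R ≤ (I₀ ^ (k + 1) ⊔ J₀ ^ (k + 1)).radical := by
      rw [Ideal.radical_eq_sInf]
      refine le_sInf fun q ⟨hle, hq⟩ => ?_
      have h1 : (⟨q, hq⟩ : PrimeSpectrum R) ∈ o₂ᶜ := hI₀ ▸ hq.le_of_pow_le (le_sup_left.trans hle)
      have h2 : (⟨q, hq⟩ : PrimeSpectrum R) ∈ o₁ᶜ := hJ₀ ▸ hq.le_of_pow_le (le_sup_right.trans hle)
      by_cases hcl : (⟨q, hq⟩ : PrimeSpectrum R) = closedPoint R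
      · exact (congrArg PrimeSpectrum.asIdeal hcl).ge
      · exact ((hcov hcl).elim h2 h1).elim
    obtain ⟨n, hn⟩ := Ideal.exists_pow_le_of_le_radical_of_fg hrad (IsNoetherian.noetherian _)
    refine not_preconnected hm hres _ _ n hIJ hn P₁ P₂ hP₁ hP₂ ?_ ?_ hS
    · exact (Ideal.pow_le_self k.succ_ne_zero).trans
        (show P₁ ∈ zeroLocus (I₀ : Set R) by rw [hI₀]; exact hP₁2)
    · exact (Ideal.pow_le_self k.succ_ne_zero).trans
        (show P₂ ∈ zeroLocus (J₀ : Set R) by rw [hJ₀]; exact hP₂1)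

end Groth.L07.BrnchCompl
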